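import Groth.Agent.L11.GalTwist.Twist
import Mathlib.AlgebraicGeometry.Sites.Fpqc
import Mathlib.CategoryTheory.Monoidal.Cartesian.Grp

/-!
# Galois descent of morphisms and of group structures
-/

set_option autoImplicit false
set_option linter.style.haveILetI false
set_option backward.isDefEq.respectTransparency false
set_option backward.isDefEq.respectTransparency.types false

universe u

open CategoryTheory CategoryTheory.Limits MonoidalCategory CartesianMonoidalCategory MonObj AlgebraicGeometry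

noncomputable section

namespace Groth.L11.GalTwist

open GalTw

variable {k : Type u} [Field k] {K : Type u} [Field K] [Algebra k K]
  {X Y Y' T A : Over (Spec (CommRingCat.of k))}

/-- The base change of a morphism. -/
abbrev bcMap (g : T ⟶ A) : bcK K T ⟶ bcK K A := (Over.pullback (ptHom (k := k) K)).map g

theorem bcMap_left_fst (g : T ⟶ A) :
    (bcMap (K := K) g).left ≫ pullback.fst A.hom (ptHom (k := k) K) =
      pullback.fst T.hom (ptHom (k := k) K) ≫ g.left :=
  pullback.lift_fst _ _ _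

theorem galMap_left_comm {f : bcK K T ⟶ bcK K A} {σ : K ≃ₐ[k] K} (h : twHom σ f = f) :
    galMap K σ T ≫ f.left ≫ pullback.fst A.hom (ptHom (k := k) K) =
      f.left ≫ pullback.fst A.hom (ptHom (k := k) K) := by
  have := congrArg (fun q => q.left ≫ pullback.fst A.hom (ptHom (k := k) K)) h
  simpa only [twHom_left, Category.assoc, galMap_fst] using this

theorem twHom_bcMap (σ : K ≃ₐ[k] K) (g : T ⟶ A) : twHom σ (bcMap (K := K) g) = bcMap g := by
  apply Over.OverMorphism.ext
  have hs : (bcMap (K := K) g).left ≫ pullback.snd A.hom (ptHom (k := k) K) =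
      pullback.snd T.hom (ptHom (k := k) K) := pullback.lift_snd _ _ _
  apply pullback.hom_ext
  · rw [twHom_left, Category.assoc, Category.assoc, galMap_fst, bcMap_left_fst, ← Category.assoc, galMap_fst]
  · rw [twHom_left, Category.assoc, Category.assoc, galMap_snd, reassoc_of% hs, galMap_snd_assoc, ← specMap_mul,
      mul_inv_cancel, specMap_one, Category.comp_id, hs]

variable [FiniteDimensional k K] [IsGalois k K]

variable (T) in
instance : Surjective (pullback.fst T.hom (ptHom (k := k) K)) := by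
  haveI : Surjective (ptHom (k := k) K) := inferInstance
  infer_instance

variable (T) in
instance : QuasiCompact (pullback.fst T.hom (ptHom (k := k) K)) := by
  haveI : IsAffineHom (ptHom (k := k) K) := isAffineHom_of_isAffine _
  infer_instance

variable (T) in
instance : Flat (pullback.fst T.hom (ptHom (k := k) K)) := by
  haveI : Flat (ptHom (k := k) K) := by
    show Flat (Spec.map (CommRingCat.ofHom (algebraMap k K)))
    rw [HasRingHomProperty.Spec_iff (P := @Flat)]
    exact RingHom.flat_algebraMap_iff.mpr inferInstance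
  infer_instance

omit [IsGalois k K] in
theorem bcMap_injective {g g' : T ⟶ A} (h : bcMap (K := K) g = bcMap g') : g = g' := by
  have h' := congrArg (fun q => q.left ≫ pullback.fst A.hom (ptHom (k := k) K)) h
  simp only [bcMap_left_fst] at h'
  exact Over.OverMorphism.ext ((cancel_epi (pullback.fst T.hom (ptHom (k := k) K))).1 h')

/-- An equivariant morphism descends. -/
theorem exists_bcMap_eq (f : bcK K T ⟶ bcK K A) (hf : ∀ σ, twHom σ f = f) :
    ∃ g : T ⟶ A, bcMap g = f := by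
  let pt := ptHom (k := k) K
  let V := (bcK K T).left
  let e := pullback.fst T.hom pt
  let p₂ : V ⟶ Spec (CommRingCat.of K) := pullback.snd T.hom pt
  let f' : V ⟶ A.left := f.left ≫ pullback.fst A.hom pt
  let P := pullback (p₂ ≫ pt) pt
  let B : P ⟶ V := pullback.lift (pullback.fst (p₂ ≫ pt) pt ≫ e) (pullback.snd (p₂ ≫ pt) pt) (by
    rw [Category.assoc, show e ≫ T.hom = p₂ ≫ pt from pullback.condition, pullback.condition])
  have hker : pullback.fst (p₂ ≫ pt) pt ≫ f' = B ≫ f' := by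
    haveI := isIso_split (k := k) K p₂
    rw [← cancel_epi (Sigma.desc fun σ : K ≃ₐ[k] K => comp K p₂ σ)]
    refine Sigma.hom_ext _ _ fun σ => ?_
    rw [Sigma.ι_desc_assoc, Sigma.ι_desc_assoc]
    have h₁ : comp K p₂ σ ≫ pullback.fst (p₂ ≫ pt) pt = 𝟙 V := pullback.lift_fst _ _ _
    have h₂ : comp K p₂ σ ≫ B = galMap K σ⁻¹ T := by
      apply pullback.hom_ext
      · rw [galMap_fst, Category.assoc, show B ≫ pullback.fst _ _ = _ from pullback.lift_fst _ _ _,
          reassoc_of% h₁]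
      · rw [galMap_snd, Category.assoc, show B ≫ pullback.snd _ _ = _ from pullback.lift_snd _ _ _]
        exact pullback.lift_snd _ _ _
    rw [reassoc_of% h₁, reassoc_of% h₂]
    exact (galMap_left_comm (hf σ⁻¹)).symm
  have hdesc : ∀ {W : Scheme.{u}} (g₁ g₂ : W ⟶ V), g₁ ≫ e = g₂ ≫ e → g₁ ≫ f' = g₂ ≫ f' := by
    intro W g₁ g₂ h
    let l : W ⟶ P := pullback.lift g₁ (g₂ ≫ p₂) (by
      rw [Category.assoc, show p₂ ≫ pt = e ≫ T.hom from pullback.condition.symm, ← Category.assoc, h,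
        Category.assoc])
    have hl₁ : l ≫ pullback.fst _ _ = g₁ := pullback.lift_fst _ _ _
    have hl₂ : l ≫ B = g₂ := by
      apply pullback.hom_ext
      · rw [Category.assoc, show B ≫ pullback.fst _ _ = _ from pullback.lift_fst _ _ _, reassoc_of% hl₁]
        exact h
      · rw [Category.assoc, show B ≫ pullback.snd _ _ = _ from pullback.lift_snd _ _ _]
        exact pullback.lift_snd _ _ _
    rw [← hl₁, Category.assoc, hker, ← Category.assoc, hl₂]
  let g₀ : T.left ⟶ A.left := EffectiveEpi.desc e f' hdesc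
  have hg : e ≫ g₀ = f' := EffectiveEpi.fac e f' hdesc
  haveI : Epi e := inferInstance
  refine ⟨Over.homMk g₀ ?_, ?_⟩
  · rw [← cancel_epi e, reassoc_of% hg]
    show (f.left ≫ pullback.fst A.hom pt) ≫ A.hom = e ≫ T.hom
    rw [Category.assoc, pullback.condition, ← Category.assoc,
      show f.left ≫ pullback.snd A.hom pt = p₂ from Over.w f]
    exact pullback.condition.symm
  · apply Over.OverMorphism.ext
    apply pullback.hom_ext
    · rw [bcMap_left_fst]
      exact hg
    · exact (pullback.lift_snd _ _ _).trans (Over.w f).symm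

/-- An equivariant isomorphism descends. -/
theorem exists_iso_bcMap_eq (f : bcK K T ≅ bcK K A) (hf : ∀ σ, twHom σ f.hom = f.hom) :
    ∃ g : T ≅ A, bcMap g.hom = f.hom := by
  have hf' : ∀ σ, twHom σ f.inv = f.inv := fun σ => by
    rw [← cancel_epi f.hom, f.hom_inv_id]
    conv_lhs => rw [← hf σ, ← twHom_comp, f.hom_inv_id, twHom_id]
  obtain ⟨g, hg⟩ := exists_bcMap_eq f.hom hf
  obtain ⟨g', hg'⟩ := exists_bcMap_eq f.inv hf'
  refine ⟨⟨g, g', bcMap_injective (K := K) ?_, bcMap_injective (K := K) ?_⟩, hg⟩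
  · simp only [bcMap, Functor.map_comp, CategoryTheory.Functor.map_id] at hg hg' ⊢
    rw [hg, hg', f.hom_inv_id]
  · simp only [bcMap, Functor.map_comp, CategoryTheory.Functor.map_id] at hg hg' ⊢
    rw [hg, hg', f.inv_hom_id]

omit [FiniteDimensional k K] [IsGalois k K] in
theorem cocycle_spec {φ : bcK K Y ≅ bcK K X} {a : GpH1.OneCocycle (K ≃ₐ[k] K) (Aut (bcK K X))}
    (h : ∀ σ, cocycle φ σ = a σ) (σ : K ≃ₐ[k] K) : twHom σ φ.hom ≫ (a σ).hom = φ.hom := by
  rw [← h σ, cocycle_apply_hom, ← twIso_hom, Iso.hom_inv_id_assoc]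

omit [FiniteDimensional k K] [IsGalois k K] in
theorem cocycle_spec_inv {φ : bcK K Y ≅ bcK K X} {a : GpH1.OneCocycle (K ≃ₐ[k] K) (Aut (bcK K X))}
    (h : ∀ σ, cocycle φ σ = a σ) (σ : K ≃ₐ[k] K) : (a σ).hom ≫ φ.inv = twHom σ φ.inv := by
  rw [← h σ, cocycle_apply_hom, Category.assoc, φ.hom_inv_id, Category.comp_id]
  rfl

/-- The cochain of the comparison of two twists. -/
def compAut (e : Y ≅ Y') (φ : bcK K Y ≅ bcK K X) (φ' : bcK K Y' ≅ bcK K X) : Aut (bcK K X) :=
  φ.symm ≪≫ (Over.pullback (ptHom (k := k) K)).mapIso e ≪≫ φ'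

omit [FiniteDimensional k K] [IsGalois k K] in
theorem compAut_spec (e : Y ≅ Y') {φ : bcK K Y ≅ bcK K X} {φ' : bcK K Y' ≅ bcK K X}
    {a b : GpH1.OneCocycle (K ≃ₐ[k] K) (Aut (bcK K X))}
    (h : ∀ σ, cocycle φ σ = a σ) (h' : ∀ σ, cocycle φ' σ = b σ) (σ : K ≃ₐ[k] K) :
    a σ = (compAut e φ φ')⁻¹ * b σ * σ • compAut e φ φ' := by
  apply Iso.ext
  show (a σ).hom = twHom σ (φ.inv ≫ bcMap e.hom ≫ φ'.hom) ≫ (b σ).hom ≫ (compAut e φ φ').inv
  have hinv : (compAut e φ φ').inv = φ'.inv ≫ bcMap e.inv ≫ φ.hom := by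
    simp [compAut, bcMap]
  rw [hinv, twHom_comp, twHom_comp, twHom_bcMap, Category.assoc, Category.assoc,
    reassoc_of% (cocycle_spec h' σ), Iso.hom_inv_id_assoc, ← Functor.map_comp_assoc, e.hom_inv_id,
    CategoryTheory.Functor.map_id, Category.id_comp, ← h σ, cocycle_apply_hom]
  rfl

theorem exists_iso_of_cohom {φ : bcK K Y ≅ bcK K X} {φ' : bcK K Y' ≅ bcK K X}
    {a b : GpH1.OneCocycle (K ≃ₐ[k] K) (Aut (bcK K X))}
    (h : ∀ σ, cocycle φ σ = a σ) (h' : ∀ σ, cocycle φ' σ = b σ) {c : Aut (bcK K X)}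
    (hc : ∀ σ : K ≃ₐ[k] K, a σ = c⁻¹ * b σ * σ • c) :
    ∃ e : Y ≅ Y', bcMap e.hom = φ.hom ≫ c.hom ≫ φ'.inv := by
  refine exists_iso_bcMap_eq (φ ≪≫ c ≪≫ φ'.symm) fun σ => ?_
  have h1 : (a σ).hom = twHom σ c.hom ≫ (b σ).hom ≫ c.inv := by
    rw [hc σ]; rfl
  show twHom σ (φ.hom ≫ c.hom ≫ φ'.inv) = φ.hom ≫ c.hom ≫ φ'.inv
  rw [twHom_comp, twHom_comp, ← cocycle_spec_inv h' σ]
  conv_rhs => rw [← cocycle_spec h σ, h1]
  simp

section Group

variable (G : Over (Spec (CommRingCat.of k))) [GrpObj G]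

omit [FiniteDimensional k K] [IsGalois k K] in
theorem twHom_mul_hom (σ : K ≃ₐ[k] K) (f g : bcK K T ⟶ bcK K G) :
    twHom σ (f * g) = twHom σ f * twHom σ g := by
  let F := Over.pullback (ptHom (k := k) K)
  have e : μ[bcK K G] = Functor.LaxMonoidal.μ F G G ≫ F.map μ[G] := rfl
  have hl : twHom σ (lift f g ≫ Functor.LaxMonoidal.μ F G G) = lift (twHom σ f) (twHom σ g) ≫ Functor.LaxMonoidal.μ F G G := by
    haveI : IsIso (Functor.LaxMonoidal.μ F G G) := inferInstance
    rw [← cancel_mono (inv (Functor.LaxMonoidal.μ F G G)), Category.assoc _ (Functor.LaxMonoidal.μ F G G), IsIso.hom_inv_id, Category.comp_id]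
    apply CartesianMonoidalCategory.hom_ext
    · rw [lift_fst, Category.assoc, show inv (Functor.LaxMonoidal.μ F G G) ≫ fst (F.obj G) (F.obj G) = F.map (fst G G) by
        rw [IsIso.inv_comp_eq, Functor.Monoidal.μ_fst]]
      refine ((congrArg (twHom σ (lift f g ≫ Functor.LaxMonoidal.μ F G G) ≫ ·) (twHom_bcMap σ (fst G G)).symm).trans
        (twHom_comp σ _ _).symm).trans ?_
      rw [Category.assoc]
      show twHom σ (lift f g ≫ Functor.LaxMonoidal.μ F G G ≫ F.map (fst G G)) = _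
      rw [Functor.Monoidal.μ_fst, lift_fst]
    · rw [lift_snd, Category.assoc, show inv (Functor.LaxMonoidal.μ F G G) ≫ snd (F.obj G) (F.obj G) = F.map (snd G G) by
        rw [IsIso.inv_comp_eq, Functor.Monoidal.μ_snd]]
      refine ((congrArg (twHom σ (lift f g ≫ Functor.LaxMonoidal.μ F G G) ≫ ·) (twHom_bcMap σ (snd G G)).symm).trans
        (twHom_comp σ _ _).symm).trans ?_
      rw [Category.assoc]
      show twHom σ (lift f g ≫ Functor.LaxMonoidal.μ F G G ≫ F.map (snd G G)) = _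
      rw [Functor.Monoidal.μ_snd, lift_snd]
  rw [Hom.mul_def, Hom.mul_def, e, ← Category.assoc, ← Category.assoc, twHom_comp, hl]
  exact congrArg _ (twHom_bcMap σ μ[G])

variable (a : GpH1.OneCocycle (K ≃ₐ[k] K) (Aut (bcK K G))) (ha : ∀ σ, a σ ∈ grpAuts K G)

/-- The twisted action on the points. -/
def ptsAct (T : Over (Spec (CommRingCat.of k))) (σ : K ≃ₐ[k] K) :
    (bcK K T ⟶ bcK K G) →* (bcK K T ⟶ bcK K G) :=
  haveI : IsMonHom (a σ).hom := (mem_grpAuts K (a σ)).1 (ha σ)
  MonoidHom.mk' (fun h => twHom σ h ≫ (a σ).hom) fun f g => by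
    show twHom σ (f * g) ≫ (a σ).hom = _
    rw [twHom_mul_hom, MonObj.mul_comp]

/-- The invariant points. -/
def twPts (T : Over (Spec (CommRingCat.of k))) : Subgroup (bcK K T ⟶ bcK K G) :=
  ⨅ σ : K ≃ₐ[k] K, MonoidHom.eqLocus (ptsAct G a ha T σ) (MonoidHom.id _)

omit [FiniteDimensional k K] [IsGalois k K] in
theorem mem_twPts {h : bcK K T ⟶ bcK K G} :
    h ∈ twPts G a ha T ↔ ∀ σ, twHom σ h ≫ (a σ).hom = h := by
  simp [twPts, Subgroup.mem_iInf]
  rfl

/-- The functor of invariant points. -/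
def twFunctor : (Over (Spec (CommRingCat.of k)))ᵒᵖ ⥤ GrpCat.{u} where
  obj T := GrpCat.of (twPts G a ha T.unop)
  map {T T'} g := GrpCat.ofHom (MonoidHom.mk' (fun h => (⟨bcMap g.unop ≫ h.1, (mem_twPts G a ha).2 fun σ => by
      rw [twHom_comp, twHom_bcMap, Category.assoc, (mem_twPts G a ha).1 h.2 σ]⟩ : twPts G a ha T'.unop))
    fun f f' => Subtype.ext (MonObj.comp_mul (bcMap g.unop) f.1 f'.1))
  map_id T := GrpCat.hom_ext (MonoidHom.ext fun h => Subtype.ext (by
    show bcMap (K := K) (𝟙 T.unop) ≫ h.1 = h.1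
    rw [bcMap, CategoryTheory.Functor.map_id, Category.id_comp]))
  map_comp g g' := GrpCat.hom_ext (MonoidHom.ext fun h => Subtype.ext (by
    show bcMap (K := K) (g'.unop ≫ g.unop) ≫ h.1 = bcMap g'.unop ≫ bcMap g.unop ≫ h.1
    rw [bcMap, Functor.map_comp, Category.assoc]))

variable {G a} {φ : bcK K Y ≅ bcK K G} (hφ : ∀ σ, cocycle φ σ = a σ)

/-- The twist represents the invariant points. -/
def twRep : (twFunctor G a ha ⋙ forget GrpCat).RepresentableBy Y where
  homEquiv {T} := Equiv.ofBijective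
    (fun g => (⟨bcMap g ≫ φ.hom, (mem_twPts G a ha).2 fun σ => by
      rw [twHom_comp, twHom_bcMap, Category.assoc, cocycle_spec hφ σ]⟩ : twPts G a ha T))
    ⟨fun g g' h => bcMap_injective (K := K) ((cancel_mono φ.hom).1 (congrArg Subtype.val h)), fun h => by
      obtain ⟨g, hg⟩ := exists_bcMap_eq (h.1 ≫ φ.inv) fun σ => by
        rw [twHom_comp, ← cocycle_spec_inv hφ σ, reassoc_of% ((mem_twPts G a ha).1 h.2 σ)]
      exact ⟨g, Subtype.ext (by show bcMap g ≫ φ.hom = h.1; rw [hg, Category.assoc, φ.inv_hom_id, Category.comp_id])⟩⟩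
  homEquiv_comp f g := Subtype.ext (by
    show bcMap (f ≫ g) ≫ φ.hom = bcMap f ≫ bcMap g ≫ φ.hom
    simp [bcMap])

include ha hφ in
theorem exists_grpObj : ∃ _ : GrpObj Y, IsMonHom φ.hom := by
  letI : GrpObj Y := GrpObj.ofRepresentableBy Y (twFunctor G a ha) (twRep ha hφ)
  let F := Over.pullback (ptHom (k := k) K)
  have hmul : F.map μ[Y] ≫ φ.hom = (F.map (fst Y Y) ≫ φ.hom) * (F.map (snd Y Y) ≫ φ.hom) :=
    congrArg Subtype.val ((twRep ha hφ).homEquiv.apply_symm_apply
      ((twRep ha hφ).homEquiv (fst Y Y) * (twRep ha hφ).homEquiv (snd Y Y)))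
  have hone : F.map η[Y] ≫ φ.hom = 1 :=
    congrArg Subtype.val ((twRep ha hφ).homEquiv.apply_symm_apply
      (1 : (twFunctor G a ha).obj (Opposite.op (𝟙_ (Over (Spec (CommRingCat.of k)))))))
  refine ⟨inferInstance, ?_, ?_⟩
  · show (Functor.LaxMonoidal.ε F ≫ F.map η[Y]) ≫ φ.hom = η[bcK K G]
    rw [Category.assoc, hone, MonObj.comp_one, Hom.one_def, toUnit_unique (toUnit (𝟙_ _)) (𝟙 _),
      Category.id_comp]
  · show (Functor.LaxMonoidal.μ F Y Y ≫ F.map μ[Y]) ≫ φ.hom = (φ.hom ⊗ₘ φ.hom) ≫ μ[bcK K G]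
    rw [Category.assoc, hmul, MonObj.comp_mul, Functor.Monoidal.μ_fst_assoc, Functor.Monoidal.μ_snd_assoc,
      Hom.mul_def]
    congr 1


variable {G' : Over (Spec (CommRingCat.of k))} [GrpObj G'] {G'' : Over (Spec (CommRingCat.of k))} [GrpObj G'']

omit [IsGalois k K] in
theorem isMonHom_of_bcMap (g : G' ⟶ G'') [h : IsMonHom (bcMap (K := K) g)] : IsMonHom g := by
  let F := Over.pullback (ptHom (k := k) K)
  constructor
  · apply bcMap_injective (K := K)
    have e := h.one_hom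
    change (Functor.LaxMonoidal.ε F ≫ F.map η[G']) ≫ F.map g = Functor.LaxMonoidal.ε F ≫ F.map η[G''] at e
    rw [Category.assoc, ← Functor.map_comp, cancel_epi] at e
    exact e
  · apply bcMap_injective (K := K)
    have e := h.mul_hom
    change (Functor.LaxMonoidal.μ F G' G' ≫ F.map μ[G']) ≫ F.map g = (F.map g ⊗ₘ F.map g) ≫ Functor.LaxMonoidal.μ F G'' G'' ≫ F.map μ[G''] at e
    rw [Category.assoc, ← Functor.map_comp, Functor.LaxMonoidal.μ_natural_assoc, ← Functor.map_comp,
      cancel_epi] at e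
    exact e

end Group

end Groth.L11.GalTwist
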