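import Groth.Prelude.Def_GalTw2
import Groth.Agent.L27.Quot.Torsor
import Groth.Agent.L27.Quot.Affine
import Mathlib.CategoryTheory.Extensive
import Mathlib.FieldTheory.Galois.IsGaloisGroup

/-!
# `X_K ×_k Spec K` for a Galois extension
-/

set_option autoImplicit false
set_option linter.style.haveILetI false
set_option backward.isDefEq.respectTransparency false
set_option backward.isDefEq.respectTransparency.types false

universe u

open CategoryTheory CategoryTheory.Limits AlgebraicGeometry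

noncomputable section

namespace Groth.L11.GalTwist

/-- Pullback distributes over a finite coproduct decomposition. -/
theorem isIso_sigmaDesc_of_isPullback {ι : Type u} [Finite ι] {Z Z' : ι → Scheme.{u}} {Q P : Scheme.{u}}
    (π : ∀ i, Z i ⟶ Q) (h : P ⟶ Q) (u' : ∀ i, Z' i ⟶ P) (g : ∀ i, Z' i ⟶ Z i)
    (hsq : ∀ i, IsPullback (u' i) (g i) h (π i)) [IsIso (Sigma.desc π)] : IsIso (Sigma.desc u') := by
  obtain ⟨n, ⟨e⟩⟩ := Finite.exists_equiv_fin ι
  have hπ : IsIso (Sigma.desc fun a : Fin n => π (e.symm a)) := by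
    have : Sigma.desc (fun a : Fin n => π (e.symm a)) = (Sigma.reindex e.symm Z).hom ≫ Sigma.desc π := by
      refine Sigma.hom_ext _ _ fun a => ?_
      rw [Sigma.ι_desc]
      exact ((Sigma.ι_reindex_hom_assoc e.symm Z a _).trans (Sigma.ι_desc _ _)).symm
    rw [this]
    infer_instance
  have h' := FinitaryPreExtensive.isIso_sigmaDesc_fst (fun a : Fin n => π (e.symm a)) h hπ
  have e₁ : (Sigma.reindex e.symm Z').hom ≫ Sigma.desc u' =
      Limits.Sigma.map (fun a : Fin n => (hsq (e.symm a)).isoPullback.hom) ≫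
        Sigma.desc (fun a : Fin n => pullback.fst h (π (e.symm a))) := by
    refine Sigma.hom_ext _ _ fun a => ?_
    rw [Sigma.ι_map_assoc, Sigma.ι_desc, IsPullback.isoPullback_hom_fst]
    exact (Sigma.ι_reindex_hom_assoc e.symm Z' a _).trans (Sigma.ι_desc _ _)
  haveI := h'
  haveI : IsIso ((Sigma.reindex e.symm Z').hom ≫ Sigma.desc u') := by rw [e₁]; infer_instance
  exact IsIso.of_isIso_comp_left (Sigma.reindex e.symm Z').hom _

variable {k : Type u} [Field k] (K : Type u) [Field K] [Algebra k K]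

/-- The structure map of `Spec K`. -/
abbrev ptHom : Spec (CommRingCat.of K) ⟶ Spec (CommRingCat.of k) := (SGA7.pt (K := k) K).hom

/-- The Galois action on `Spec K`. -/
def specAction : (K ≃ₐ[k] K) →* Aut (Spec (CommRingCat.of K)) where
  toFun σ :=
    { hom := GalTw.specMap K σ⁻¹
      inv := GalTw.specMap K σ
      hom_inv_id := by rw [← GalTw.specMap_mul, inv_mul_cancel, GalTw.specMap_one]
      inv_hom_id := by rw [← GalTw.specMap_mul, mul_inv_cancel, GalTw.specMap_one] }
  map_one' := Iso.ext (show GalTw.specMap K _ = _ by rw [inv_one, GalTw.specMap_one]; rfl)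
  map_mul' σ τ := Iso.ext (show GalTw.specMap K _ = GalTw.specMap K _ ≫ GalTw.specMap K _ by
    rw [mul_inv_rev, GalTw.specMap_mul])

theorem specAction_hom (σ : K ≃ₐ[k] K) : (specAction K σ).hom = GalTw.specMap K σ⁻¹ := rfl

theorem eq_one_of_comp_specMap {T : Scheme.{u}} [Nonempty T] (x : T ⟶ Spec (CommRingCat.of K))
    (σ : K ≃ₐ[k] K) (h : x ≫ GalTw.specMap K σ = x) : σ = 1 := by
  obtain ⟨t⟩ := ‹Nonempty T›
  have h' := congrArg (fun f => T.fromSpecResidueField t ≫ f) h
  simp only [← Category.assoc] at h'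
  obtain ⟨φ, hφ⟩ := Spec.map_surjective (T.fromSpecResidueField t ≫ x)
  rw [← hφ, ← Spec.map_comp, Spec.map_inj] at h'
  refine AlgEquiv.ext fun a => ?_
  exact RingHom.injective φ.hom (congrArg (fun f => f.hom a) h')

variable [FiniteDimensional k K] [IsGalois k K]

theorem isQuot_ptHom : SGA1.IsQuot (specAction (k := k) K) (ptHom (k := k) K) := by
  haveI : Algebra.IsInvariant k K (K ≃ₐ[k] K) :=
    ⟨fun x hx => IntermediateField.mem_bot.1 ((IsGalois.mem_bot_iff_fixed x).2 hx)⟩
  refine L27.Quot.isQuot_SpecMap (specAction K) ?_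
  ext f
  constructor
  · rintro ⟨σ, rfl⟩
    exact ⟨σ⁻¹, rfl⟩
  · rintro ⟨σ, rfl⟩
    refine ⟨σ⁻¹, ?_⟩
    show GalTw.specMap K σ⁻¹⁻¹ = _
    rw [inv_inv]
    rfl

theorem free_specAction : L27.Quot.Free (specAction (k := k) K) := fun L _ _ ξ σ h => by
  have := eq_one_of_comp_specMap K ξ σ⁻¹ h
  rwa [inv_eq_one] at this

/-- The component of `V ×_k Spec K` at a Galois element. -/
def comp {V : Scheme.{u}} (p₂ : V ⟶ Spec (CommRingCat.of K)) (σ : K ≃ₐ[k] K) :
    V ⟶ pullback (p₂ ≫ ptHom (k := k) K) (ptHom (k := k) K) :=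
  pullback.lift (𝟙 V) (p₂ ≫ GalTw.specMap K σ⁻¹)
    (by rw [Category.id_comp, Category.assoc, GalTw.specMap_comp_pt])

/-- `V ×_k Spec K` is a disjoint union of copies of `V` indexed by the Galois group. -/
theorem isIso_split {V : Scheme.{u}} (p₂ : V ⟶ Spec (CommRingCat.of K)) :
    IsIso (Sigma.desc fun σ : K ≃ₐ[k] K => comp K p₂ σ) := by
  let pt := ptHom (k := k) K
  let π : (K ≃ₐ[k] K) → (Spec (CommRingCat.of K) ⟶ pullback pt pt) := fun σ =>
    pullback.lift (𝟙 _) (specAction K σ).hom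
      ((Category.id_comp pt).trans ((isQuot_ptHom K).inv σ).symm)
  haveI : IsIso (Sigma.desc π) := L27.Quot.isIso_torsor (isQuot_ptHom K) (free_specAction K)
  let m : pullback (p₂ ≫ pt) pt ⟶ pullback pt pt :=
    pullback.map (p₂ ≫ pt) pt pt pt p₂ (𝟙 _) (𝟙 _) (Category.comp_id _) (by simp)
  have hm : IsPullback (pullback.fst (p₂ ≫ pt) pt) m p₂ (pullback.fst pt pt) := by
    have out : IsPullback (m ≫ pullback.snd pt pt) (pullback.fst (p₂ ≫ pt) pt) pt (p₂ ≫ pt) := by
      have : m ≫ pullback.snd pt pt = pullback.snd (p₂ ≫ pt) pt := by simp [m]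
      rw [this]
      exact (IsPullback.of_hasPullback _ _).flip
    exact (IsPullback.of_right out (by simp [m]) (IsPullback.of_hasPullback pt pt).flip).flip
  refine isIso_sigmaDesc_of_isPullback π m (fun σ => comp K p₂ σ) (fun _ => p₂) fun σ => ?_
  have hbot : IsPullback (pullback.fst (p₂ ≫ pt) pt) m p₂ (pullback.fst pt pt) := hm
  have hu : comp K p₂ σ ≫ pullback.fst (p₂ ≫ pt) pt = 𝟙 V := pullback.lift_fst _ _ _
  have hπ : π σ ≫ pullback.fst pt pt = 𝟙 _ := pullback.lift_fst _ _ _
  have hw : comp K p₂ σ ≫ m = p₂ ≫ π σ := by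
    apply pullback.hom_ext
    · simp [comp, π, m, pt]; exact Category.id_comp _
    · simp [comp, π, m, pt, specAction_hom]
  refine IsPullback.of_right ?_ hw hbot
  rw [hu, hπ]
  exact IsPullback.id_horiz p₂

end Groth.L11.GalTwist
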