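import Groth.Agent.L11.GalTwist.Split
import Groth.Agent.L27.Quot.Exists
import Groth.Agent.L27.Quot.Desc
import Groth.Agent.L18.AmpleAvoid
import Groth.Agent.L18.AmpleOps
import Groth.Prelude.Def_RelProj

/-!
# Twisting a scheme by a Galois cocycle
-/

set_option autoImplicit false
set_option linter.style.haveILetI false
set_option backward.isDefEq.respectTransparency false
set_option backward.isDefEq.respectTransparency.types false

universe u

open CategoryTheory CategoryTheory.Limits AlgebraicGeometry

noncomputable section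

namespace Groth.L11.GalTwist

open GalTw

variable {k : Type u} [Field k] {K : Type u} [Field K] [Algebra k K]
  {X Y : Over (Spec (CommRingCat.of k))}

variable (a : GpH1.OneCocycle (K ≃ₐ[k] K) (Aut (bcK K X)))

/-- The semilinear automorphism attached to a cocycle. -/
def twMap (σ : K ≃ₐ[k] K) : (bcK K X).left ⟶ (bcK K X).left := galMap K σ⁻¹ X ≫ (a σ).hom.left

theorem twMap_snd (σ : K ≃ₐ[k] K) : twMap a σ ≫ pullback.snd X.hom (ptHom (k := k) K) =
    pullback.snd X.hom (ptHom (k := k) K) ≫ specMap K σ⁻¹ := by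
  have h : (a σ).hom.left ≫ pullback.snd X.hom (ptHom (k := k) K) = pullback.snd X.hom (ptHom (k := k) K) :=
    Over.w (a σ).hom
  rw [twMap, Category.assoc, h, galMap_snd]

theorem twMap_one : twMap a 1 = 𝟙 _ := by
  rw [twMap, oneCocycle_one, inv_one, galMap_one]
  exact Category.id_comp _

theorem twMap_mul (σ τ : K ≃ₐ[k] K) : twMap a (σ * τ) = twMap a τ ≫ twMap a σ := by
  have h : (a (σ * τ)).hom.left = (galMap K σ X ≫ (a τ).hom.left ≫ galMap K σ⁻¹ X) ≫ (a σ).hom.left := by
    rw [a.2 σ τ]
    rfl
  rw [twMap, twMap, twMap, h]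
  simp only [Category.assoc, galMap_mul_assoc, mul_inv_rev, inv_mul_cancel_right]

/-- The semilinear action attached to a cocycle. -/
def twAction : (K ≃ₐ[k] K) →* Aut (bcK K X).left where
  toFun σ :=
    { hom := twMap a σ
      inv := twMap a σ⁻¹
      hom_inv_id := by rw [← twMap_mul, inv_mul_cancel, twMap_one]
      inv_hom_id := by rw [← twMap_mul, mul_inv_cancel, twMap_one] }
  map_one' := Iso.ext (twMap_one a)
  map_mul' σ τ := Iso.ext (twMap_mul a σ τ)

theorem twAction_hom (σ : K ≃ₐ[k] K) : (twAction a σ).hom = twMap a σ := rfl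

theorem free_twAction : L27.Quot.Free (twAction a) := fun L _ _ ξ σ h => by
  have h' := congrArg (fun f => f ≫ pullback.snd X.hom (ptHom (k := k) K)) h
  simp only [Category.assoc, twAction_hom, twMap_snd] at h'
  rw [← Category.assoc] at h'
  have := eq_one_of_comp_specMap K _ σ⁻¹ h'
  rwa [inv_eq_one] at this

variable [FiniteDimensional k K]

theorem exists_affine_orbit (hX : RelProj.IsQuasiProjective X.hom) (v : (bcK K X).left) :
    ∃ U : (bcK K X).left.Opens, IsAffineOpen U ∧ ∀ σ, (twAction a σ).hom v ∈ U := by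
  obtain ⟨-, -, L, hL⟩ := hX
  let fstX : (bcK K X).left ⟶ X.left := pullback.fst X.hom (ptHom (k := k) K)
  haveI : IsAffineHom fstX := MorphismProperty.pullback_fst (P := @IsAffineHom) _ _
    (isAffineHom_of_isAffine _)
  obtain ⟨n, s, hs, -, hsa⟩ := L18.Ample.exists_pow_genLocus_of_isAmple
    (L18.Ample.isAmple_of_isRelAmple hL) (Set.range fun σ => fstX ((twAction a σ).hom v))
    (Set.finite_range _) ⊤ fun _ _ => trivial
  exact ⟨_, hsa.preimage fstX, fun σ => hs ⟨σ, rfl⟩⟩

variable [IsGalois k K]

/-- Galois descent of schemes whose orbits lie in affine opens, with the quotient map. -/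
theorem exists_isTwist_of_orbit
    (horb : ∀ v, ∃ U : (bcK K X).left.Opens, IsAffineOpen U ∧ ∀ σ, (twAction a σ).hom v ∈ U) :
    ∃ Y : Over (Spec (CommRingCat.of k)), IsTwist K X a Y ∧ ∃ q : (bcK K X).left ⟶ Y.left,
      SGA1.IsQuot (twAction a) q ∧ q ≫ Y.hom = (bcK K X).hom ≫ ptHom (k := k) K := by
  let V := (bcK K X).left
  let pt := ptHom (k := k) K
  let p₂ : V ⟶ Spec (CommRingCat.of K) := pullback.snd X.hom pt
  obtain ⟨Y₀, q, hq⟩ := L27.Quot.exists_quotient (twAction a) horb
  have hinv : ∀ σ, (twAction a σ).hom ≫ p₂ ≫ pt = p₂ ≫ pt := fun σ => by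
    rw [← Category.assoc, twAction_hom, twMap_snd, Category.assoc, specMap_comp_pt]
  let hY := L27.Quot.desc hq (p₂ ≫ pt) hinv
  have hqY : q ≫ hY = p₂ ≫ pt := L27.Quot.comp_desc _ _ _
  let Y : Over (Spec (CommRingCat.of k)) := Over.mk hY
  let c : V ⟶ pullback hY pt := pullback.lift q p₂ hqY
  let w : pullback (p₂ ≫ pt) pt ⟶ pullback hY pt :=
    pullback.map (p₂ ≫ pt) pt hY pt q (𝟙 _) (𝟙 _) (by rw [Category.comp_id, hqY])
      (by rw [Category.comp_id, Category.id_comp])
  have hfree := free_twAction a
  haveI : Etale q := L27.Quot.etale hq hfree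
  haveI : Surjective q := ⟨L27.Quot.surjective hq⟩
  haveI := hq.affine
  have hw : IsPullback (pullback.fst (p₂ ≫ pt) pt) w q (pullback.fst hY pt) := by
    have out : IsPullback (w ≫ pullback.snd hY pt) (pullback.fst (p₂ ≫ pt) pt) pt (q ≫ hY) := by
      have : w ≫ pullback.snd hY pt = pullback.snd (p₂ ≫ pt) pt := by simp [w]
      rw [this, hqY]
      exact (IsPullback.of_hasPullback _ _).flip
    exact (IsPullback.of_right out (by simp [w]) (IsPullback.of_hasPullback hY pt).flip).flip
  let θ : pullback q q ⟶ pullback (p₂ ≫ pt) pt :=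
    pullback.lift (pullback.fst q q) (pullback.snd q q ≫ p₂) (by
      rw [Category.assoc, ← hqY, ← Category.assoc, pullback.condition, Category.assoc])
  have hθw : θ ≫ w = pullback.snd q q ≫ c := by
    apply pullback.hom_ext
    · simp [θ, w, c, pullback.condition]
    · simp [θ, w, c]
  have hθ : IsPullback θ (pullback.snd q q) w c := by
    refine IsPullback.of_right ?_ hθw hw
    rw [show θ ≫ pullback.fst _ _ = pullback.fst q q from pullback.lift_fst _ _ _,
      show c ≫ pullback.fst _ _ = q from pullback.lift_fst _ _ _]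
    exact IsPullback.of_hasPullback q q
  haveI : IsIso θ := by
    haveI := L27.Quot.isIso_torsor hq hfree
    haveI := isIso_split (k := k) K p₂
    have e : Sigma.desc (fun σ => pullback.lift (𝟙 V) (twAction a σ).hom
        ((Category.id_comp q).trans (hq.inv σ).symm)) ≫ θ = Sigma.desc fun σ => comp K p₂ σ := by
      refine Sigma.hom_ext _ _ fun σ => ?_
      rw [Sigma.ι_desc_assoc, Sigma.ι_desc]
      apply pullback.hom_ext
      · rw [Category.assoc, show θ ≫ pullback.fst _ _ = pullback.fst q q from pullback.lift_fst _ _ _,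
          pullback.lift_fst]
        exact (pullback.lift_fst _ _ _).symm
      · rw [Category.assoc, show θ ≫ pullback.snd _ _ = pullback.snd q q ≫ p₂ from pullback.lift_snd _ _ _,
          pullback.lift_snd_assoc]
        exact (twMap_snd a σ).trans (pullback.lift_snd _ _ _).symm
    haveI : IsIso (Sigma.desc (fun σ => pullback.lift (𝟙 V) (twAction a σ).hom
        ((Category.id_comp q).trans (hq.inv σ).symm)) ≫ θ) := by rw [e]; infer_instance
    exact IsIso.of_isIso_comp_left (Sigma.desc (fun σ => pullback.lift (𝟙 V) (twAction a σ).hom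
        ((Category.id_comp q).trans (hq.inv σ).symm))) _
  haveI hc : IsIso c :=
    MorphismProperty.of_isPullback_of_descendsAlong (P := MorphismProperty.isomorphisms Scheme)
      (Q := @Surjective ⊓ @Flat ⊓ @QuasiCompact) hθ
      ⟨⟨MorphismProperty.of_isPullback hw inferInstance, MorphismProperty.of_isPullback hw inferInstance⟩,
        MorphismProperty.of_isPullback hw inferInstance⟩ ‹IsIso θ›
  let ψ : bcK K X ≅ bcK K Y := Over.isoMk (asIso c) (pullback.lift_snd _ _ _)
  refine ⟨Y, ⟨ψ.symm, fun σ => ?_⟩, q, hq, hqY⟩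
  have key : c ≫ galMap K σ⁻¹ Y = twMap a σ ≫ c := by
    apply pullback.hom_ext
    · rw [Category.assoc, Category.assoc, galMap_fst]
      show c ≫ pullback.fst hY pt = twMap a σ ≫ c ≫ pullback.fst hY pt
      rw [show c ≫ pullback.fst _ _ = q from pullback.lift_fst _ _ _]
      exact (hq.inv σ).symm
    · rw [Category.assoc, Category.assoc, galMap_snd]
      show c ≫ pullback.snd hY pt ≫ _ = twMap a σ ≫ c ≫ pullback.snd hY pt
      rw [show c ≫ pullback.snd _ _ = p₂ from pullback.lift_snd _ _ _,
        ← Category.assoc, show c ≫ pullback.snd _ _ = p₂ from pullback.lift_snd _ _ _]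
      exact (twMap_snd a σ).symm
  apply Iso.ext
  apply Over.OverMorphism.ext
  show (galMap K σ X ≫ c ≫ galMap K σ⁻¹ Y) ≫ inv c = (a σ).hom.left
  rw [key, twMap]
  simp only [Category.assoc, IsIso.hom_inv_id, Category.comp_id, galMap_mul_assoc, mul_inv_cancel, galMap_one]
  exact Category.id_comp _

/-- Galois descent of quasi-projective schemes. -/
theorem exists_isTwist (hX : RelProj.IsQuasiProjective X.hom) :
    ∃ Y : Over (Spec (CommRingCat.of k)), IsTwist K X a Y :=
  (exists_isTwist_of_orbit a (exists_affine_orbit a hX)).imp fun _ h => h.1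

end Groth.L11.GalTwist
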